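import Cfsg.Agent.H324.AP.Form

/-!
# S4791, S4927, classical rows: block generators in `GL(V)` (helper493)

* `FrL P n D D'` : `V = C_V(P) + D 1 + … + D n`, `D i` irreducible; `FrL.perm` : `N(P)` permutes the pairs `(D i, D' i)`;
* `exists_bg_gl` : `P` an abelian, not cyclic Sylow `p`-subgroup of `GL(V)`: at least two block generators.
-/

set_option autoImplicit false

namespace Cfsg.Agent.H493.AP

open Submodule Module Cfsg.Agent.H324.AP

universe u v

variable {F : Type u} [Field F] {V : Type v} [AddCommGroup V] [Module F V] {P : Subgroup (V ≃ₗ[F] V)} {p : ℕ}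

/-- `g|_U + 1_W ∈ P` for every `P`-invariant decomposition -/
theorem range_le_gl [Fact p.Prime] (hP : Syl p ⊤ P) {U W : Submodule F V} (hUW : IsCompl U W)
    (hU : Inv P U) (hW : Inv P W) : (cutH hUW hU).range ≤ P := by
  have h2 : IsPGroup p (cutH hUW hU).range := by
    rw [MonoidHom.range_eq_map]
    exact (IsPGroup.to_le hP.isP le_rfl |>.to_subgroup ⊤).map _
  have h3 : P ≤ Subgroup.normalizer ((cutH hUW hU).range : Set (V ≃ₗ[F] V)) := by
    intro x hx
    have key : ∀ x ∈ P, ∀ y ∈ (cutH hUW hU).range, x * y * x⁻¹ ∈ (cutH hUW hU).range := by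
      rintro x hx _ ⟨g, rfl⟩
      refine ⟨⟨x, hx⟩ * g * ⟨x, hx⟩⁻¹, ?_⟩
      refine equiv_ext_compl hUW (fun u hu => ?_) fun w hw => ?_
      · rw [cutH_left hUW hU _ hu, LinearEquiv.mul_apply, LinearEquiv.mul_apply,
          cutH_left hUW hU g (hU _ (P.inv_mem hx) u hu)]
        rfl
      · rw [cutH_right hUW hU _ hw, LinearEquiv.mul_apply, LinearEquiv.mul_apply,
          cutH_right hUW hU g (hW _ (P.inv_mem hx) w hw)]
        exact (LinearEquiv.apply_symm_apply x w).symm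
    rw [Subgroup.mem_normalizer_iff]
    intro y
    refine ⟨fun hy => key x hx y hy, fun hy => ?_⟩
    have h4 := key x⁻¹ (P.inv_mem hx) _ hy
    have h5 : x⁻¹ * (x * y * x⁻¹) * x⁻¹⁻¹ = y := by group
    rwa [h5] at h4
  have h4 : IsPGroup p (P ⊔ (cutH hUW hU).range : Subgroup (V ≃ₗ[F] V)) :=
    IsPGroup.to_sup_of_normal_right' hP.isP h2 h3
  have h5 := hP.max _ le_top h4 le_sup_left
  exact le_sup_right.trans h5.le

/-- invariant subspaces are compatible with invariant decompositions -/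
theorem comp_mem_gl [Finite V] [Fact p.Prime] (hpF : (p : F) ≠ 0) (hP : Syl p ⊤ P)
    {U W : Submodule F V} (hUW : IsCompl U W) (hU : Inv P U) (hW : Inv P W) (hfix : ∀ u ∈ U, u ∈ fixP P → u = 0)
    {X : Submodule F V} (hX : Inv P X) {u w : V} (hu : u ∈ U) (hw : w ∈ W) (huw : u + w ∈ X) : u ∈ X ∧ w ∈ X := by
  classical
  have hfin : Finite (V ≃ₗ[F] V) := Finite.of_injective (fun g : V ≃ₗ[F] V => (g : V → V)) DFunLike.coe_injective
  set R := (cutH hUW hU).range with hR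
  have hRP : R ≤ P := range_le_gl hP hUW hU hW
  have : Fintype R := Fintype.ofFinite R
  have hRX : Inv R X := fun g hg => hX g (hRP hg)
  have hRU : Inv R U := fun g hg => hU g (hRP hg)
  have hcard : (Fintype.card R : F) ≠ 0 := by
    have h2 : IsPGroup p R := hP.isP.to_le hRP
    obtain ⟨n, hn⟩ := IsPGroup.iff_card.1 h2
    rw [← Nat.card_eq_fintype_card, hn, Nat.cast_pow]
    exact pow_ne_zero _ hpF
  have h1 : avg R u = 0 := by
    apply hfix _ (avg_mem hRU hu)
    intro g hg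
    have h2 := avg_fix (P := R) u (cutH hUW hU ⟨g, hg⟩) ⟨_, rfl⟩
    rwa [cutH_left hUW hU _ (avg_mem hRU hu)] at h2
  have h2 : avg R w = (Fintype.card R : F) • w := by
    apply avg_of_fix
    rintro _ ⟨g, rfl⟩
    exact cutH_right hUW hU g hw
  have h3 := avg_mem hRX huw
  rw [avg_add, h1, zero_add, h2] at h3
  have h4 : w ∈ X := by
    have h5 := X.smul_mem (Fintype.card R : F)⁻¹ h3
    rwa [smul_smul, inv_mul_cancel₀ hcard, one_smul] at h5
  refine ⟨?_, h4⟩
  have h5 := X.sub_mem huw h4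
  rwa [add_sub_cancel_right] at h5

/-- decompositions relative to `X` -/
structure FrL (P : Subgroup (V ≃ₗ[F] V)) (X : Submodule F V) {n : ℕ} (D D' : Fin n → Submodule F V) : Prop where
  irr : ∀ i, Irr P (D i)
  compl : ∀ i, IsCompl (D i) (D' i)
  inv' : ∀ i, Inv P (D' i)
  le : ∀ i j, i ≠ j → D j ≤ D' i
  xle : ∀ i, X ≤ D' i
  all : ∀ u, (∀ i, u ∈ D' i) → u ∈ X
  tot : ∀ Z : Submodule F V, X ≤ Z → (∀ i, D i ≤ Z) → Z = ⊤

theorem exists_frL [Finite V] [FiniteDimensional F V] [Fact p.Prime] (hpF : (p : F) ≠ 0) (hP : IsPGroup p P)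
    {X W : Submodule F V} (hX : Inv P X) (hW : Inv P W) (hXW : IsCompl X W) :
    ∃ (n : ℕ) (D D' : Fin n → Submodule F V), FrL P X D D' ∧ ∀ i, D i ≤ W := by
  induction hd : finrank F W using Nat.strong_induction_on generalizing X W with
  | _ d ih =>
    by_cases h0 : W = ⊥
    · refine ⟨0, fun i => i.elim0, fun i => i.elim0, ⟨fun i => i.elim0, fun i => i.elim0, fun i => i.elim0,
        fun i => i.elim0, fun i => i.elim0, fun u _ => ?_, fun Z hZ _ => ?_⟩, fun i => i.elim0⟩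
      · have h1 := hXW.sup_eq_top
        rw [h0, sup_bot_eq] at h1
        rw [h1]; trivial
      · have h1 := hXW.sup_eq_top
        rw [h0, sup_bot_eq] at h1
        rw [h1] at hZ
        exact top_le_iff.1 hZ
    obtain ⟨E, hEW, hE⟩ := exists_irr hW h0
    obtain ⟨W2, hW2W, hW2, hi, hs⟩ := exists_compl_in hpF hP hE.inv hW hEW
    have c1 : IsCompl E (X ⊔ W2) := by
      refine ⟨?_, ?_⟩
      · rw [sup_comm]
        refine Disjoint.disjoint_sup_right_of_disjoint_sup_left (disjoint_iff.2 hi) ?_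
        rw [hs]
        exact hXW.symm.disjoint
      · rw [codisjoint_iff, sup_left_comm, hs, hXW.sup_eq_top]
    have c2 : IsCompl (X ⊔ E) W2 := by
      refine ⟨?_, ?_⟩
      · have h1 : Disjoint W2 (E ⊔ X) := by
          refine Disjoint.disjoint_sup_right_of_disjoint_sup_left (disjoint_iff.2 (by rw [inf_comm]; exact hi)) ?_
          rw [sup_comm, hs]
          exact hXW.symm.disjoint
        rw [sup_comm] at h1
        exact h1.symm
      · rw [codisjoint_iff, sup_assoc, hs, hXW.sup_eq_top]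
    have hlt : W2 < W := by
      refine lt_of_le_of_ne hW2W fun h1 => hE.ne ?_
      rw [eq_bot_iff, ← hi]
      refine le_inf le_rfl (hEW.trans h1.ge)
    obtain ⟨n, D, D', h, hDW⟩ := ih (finrank F W2) (by rw [← hd]; exact Submodule.finrank_lt_finrank_of_lt hlt)
      (hX.sup hE.inv) hW2 c2 rfl
    refine ⟨n + 1, Fin.cons E D, Fin.cons (X ⊔ W2) D', ⟨?_, ?_, ?_, ?_, ?_, ?_, ?_⟩, ?_⟩
    · refine Fin.cases ?_ fun i => ?_
      · exact hE
      · rw [Fin.cons_succ]; exact h.irr i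
    · refine Fin.cases ?_ fun i => ?_
      · exact c1
      · rw [Fin.cons_succ, Fin.cons_succ]; exact h.compl i
    · refine Fin.cases ?_ fun i => ?_
      · exact hX.sup hW2
      · rw [Fin.cons_succ]; exact h.inv' i
    · refine Fin.cases ?_ fun i => ?_
      · refine Fin.cases ?_ fun j => ?_
        · intro h1; exact absurd rfl h1
        · intro _
          rw [Fin.cons_succ, Fin.cons_zero]
          exact (hDW j).trans le_sup_right
      · refine Fin.cases ?_ fun j => ?_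
        · intro _
          rw [Fin.cons_succ, Fin.cons_zero]
          exact le_sup_right.trans (h.xle i)
        · intro h1
          rw [Fin.cons_succ, Fin.cons_succ]
          exact h.le i j fun h2 => h1 (by rw [h2])
    · refine Fin.cases ?_ fun i => ?_
      · exact le_sup_left
      · rw [Fin.cons_succ]
        exact le_sup_left.trans (h.xle i)
    · intro u hu
      have h1 : u ∈ X ⊔ E := h.all u fun i => by
        have h2 := hu i.succ
        rwa [Fin.cons_succ] at h2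
      have h2 : u ∈ X ⊔ W2 := hu 0
      have h3 : u ∈ (X ⊔ W2) ⊓ (X ⊔ E) := ⟨h2, h1⟩
      have h4 : W2 ⊓ (X ⊔ E) = ⊥ := by rw [inf_comm]; exact c2.inf_eq_bot
      rw [sup_inf_assoc_of_le W2 (le_sup_left : X ≤ X ⊔ E), h4, sup_bot_eq] at h3
      exact h3
    · intro Z hXZ hZ
      refine h.tot Z (sup_le hXZ (hZ 0)) fun i => ?_
      have h2 := hZ i.succ
      rwa [Fin.cons_succ] at h2
    · refine Fin.cases ?_ fun i => ?_
      · exact hEW
      · rw [Fin.cons_succ]; exact (hDW i).trans hW2W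

theorem Syl.exists_frL [Finite V] [FiniteDimensional F V] [Fact p.Prime] (hpF : (p : F) ≠ 0)
    (hP : IsPGroup p P) : ∃ (n : ℕ) (D D' : Fin n → Submodule F V), FrL P (fixP P) D D' := by
  obtain ⟨W, hW, hc⟩ := exists_compl hpF hP (inv_fixP P)
  obtain ⟨n, D, D', h, -⟩ := AP.exists_frL hpF hP (inv_fixP P) hW hc
  exact ⟨n, D, D', h⟩

section frl

variable {n : ℕ} {D D' : Fin n → Submodule F V}

theorem FrL.nofix (h : FrL P (fixP P) D D') (i : Fin n) (v : V) (hv : v ∈ D i) (hf : v ∈ fixP P) : v = 0 := by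
  have h1 : v ∈ D i ⊓ D' i := ⟨hv, h.xle i hf⟩
  rw [(h.compl i).inf_eq_bot] at h1
  exact h1

theorem FrL.dec [Fact p.Prime] (hP : Syl p ⊤ P) (h : FrL P (fixP P) D D') : Dec P D D' where
  compl := h.compl
  inv := fun i => (h.irr i).inv
  inv' := h.inv'
  le := h.le
  cut := fun i g => range_le_gl hP (h.compl i) (h.irr i).inv (h.inv' i) ⟨g, rfl⟩
  nofix := h.nofix
  irr := fun i => ⟨D i, le_rfl, h.irr i, fun _ _ h1 h2 => equiv_ext_compl (h.compl i) h2 h1⟩

theorem FrL.totf (h : FrL P (fixP P) D D') {y : V ≃ₗ[F] V} (hy : y ∈ P) (h1 : ∀ i, ∀ v ∈ D i, y v = v) : y = 1 := by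
  have h2 : fixP (Subgroup.zpowers y) = ⊤ := by
    refine h.tot _ (fun v hv => ?_) fun i v hv => ?_
    · intro g hg
      exact hv g ((Subgroup.zpowers_le).2 hy hg)
    · intro g hg
      have h3 : Subgroup.zpowers y ≤ MulAction.stabilizer (V ≃ₗ[F] V) v := (Subgroup.zpowers_le).2 (h1 i v hv)
      exact h3 hg
  apply LinearEquiv.ext
  intro v
  have h3 : v ∈ fixP (Subgroup.zpowers y) := by rw [h2]; trivial
  exact h3 y (Subgroup.mem_zpowers y)

/-- irreducible subspaces without fixed points are blocks -/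
theorem FrL.eq_of_irr [Finite V] [Fact p.Prime] (hpF : (p : F) ≠ 0) (hP : Syl p ⊤ P) (h : FrL P (fixP P) D D')
    {M : Submodule F V} (hM : Irr P M) (hf : ∀ v ∈ M, v ∈ fixP P → v = 0) : ∃ j, M = D j := by
  obtain ⟨u, hu, hu0⟩ := Submodule.exists_mem_ne_zero_of_ne_bot hM.ne
  obtain ⟨j, hj⟩ : ∃ j, u ∉ D' j := by
    by_contra hcon
    push Not at hcon
    exact hu0 (hf u hu (h.all u hcon))
  refine ⟨j, ?_⟩
  by_contra hne
  apply hj
  have hu' : u ∈ D j ⊔ D' j := by rw [(h.compl j).sup_eq_top]; trivial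
  obtain ⟨a, ha, b, hb, rfl⟩ := Submodule.mem_sup.1 hu'
  have h2 := (comp_mem_gl hpF hP (h.compl j) (h.irr j).inv (h.inv' j) (h.nofix j) hM.inv ha hb hu).1
  have h3 : a ∈ M ⊓ D j := ⟨h2, ha⟩
  rw [hM.inf_eq (h.irr j) hne] at h3
  have h4 : a = 0 := h3
  rw [h4, zero_add]
  exact hb

theorem FrL.le_of_inf [Finite V] [Fact p.Prime] (hpF : (p : F) ≠ 0) (hP : Syl p ⊤ P) (h : FrL P (fixP P) D D') {j : Fin n}
    {X : Submodule F V} (hX : Inv P X) (hi : X ⊓ D j = ⊥) : X ≤ D' j := by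
  intro x hx
  have hx' : x ∈ D j ⊔ D' j := by rw [(h.compl j).sup_eq_top]; trivial
  obtain ⟨a, ha, b, hb, rfl⟩ := Submodule.mem_sup.1 hx'
  have h2 := (comp_mem_gl hpF hP (h.compl j) (h.irr j).inv (h.inv' j) (h.nofix j) hX ha hb hx).1
  have h3 : a ∈ X ⊓ D j := ⟨h2, ha⟩
  rw [hi] at h3
  have h4 : a = 0 := h3
  rw [h4, zero_add]
  exact hb

/-- **`N(P)` permutes the blocks** -/
theorem FrL.perm [Finite V] [Fact p.Prime] (hpF : (p : F) ≠ 0) (hP : Syl p ⊤ P) (h : FrL P (fixP P) D D')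
    {g : V ≃ₗ[F] V} (hg : g ∈ Subgroup.normalizer (P : Set (V ≃ₗ[F] V))) (i : Fin n) :
    ∃ j, im g (D i) = D j ∧ ∀ v, v ∈ D' i ↔ g v ∈ D' j := by
  obtain ⟨j, hj⟩ := h.eq_of_irr hpF hP ((h.irr i).im hg) (by
    rintro _ ⟨d, hd, rfl⟩ hf
    have h1 := fix_mem hg hf
    have h2 : g⁻¹ (g d) = d := inv_mul_self_apply g d
    change g⁻¹ (g d) ∈ fixP P at h1
    rw [h2] at h1
    rw [h.nofix i d hd h1, map_zero])
  have hinf : ∀ g : V ≃ₗ[F] V, ∀ A B : Submodule F V, A ⊓ B = ⊥ → im g A ⊓ im g B = ⊥ := by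
    intro g A B hAB
    rw [eq_bot_iff]
    rintro v ⟨hv, hv'⟩
    have h1 : g⁻¹ v ∈ A ⊓ B := ⟨mem_im.1 hv, mem_im.1 hv'⟩
    rw [hAB] at h1
    have h2 : g⁻¹ v = 0 := h1
    have h3 := mul_inv_self_apply g v
    rw [h2, map_zero] at h3
    exact h3.symm
  have h1 : im g (D' i) ≤ D' j := by
    refine h.le_of_inf hpF hP ((h.inv' i).im hg) ?_
    rw [← hj]
    exact hinf g _ _ (by rw [inf_comm]; exact (h.compl i).inf_eq_bot)
  have h2 : im g⁻¹ (D' j) ≤ D' i := by
    refine h.le_of_inf hpF hP ((h.inv' j).im (Subgroup.inv_mem _ hg)) ?_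
    have h3 : D i = im g⁻¹ (D j) := by
      rw [← hj]
      ext v
      rw [mem_im, mem_im, inv_inv, inv_mul_self_apply]
    rw [h3]
    exact hinf g⁻¹ _ _ (by rw [inf_comm]; exact (h.compl j).inf_eq_bot)
  refine ⟨j, hj, fun v => ⟨fun hv => h1 (apply_mem_im.2 hv), fun hv => ?_⟩⟩
  have h3 := h2 (apply_mem_im.2 hv)
  rwa [inv_mul_self_apply] at h3

end frl

/-- **block generators in `GL(V)`** -/
theorem exists_bg_gl [Finite V] [FiniteDimensional F V] [Finite F] [Fact p.Prime] (hpF : (p : F) ≠ 0)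
    (hP : Syl p ⊤ P) (hab : ∀ a ∈ P, ∀ b ∈ P, a * b = b * a) (hnc : ¬ IsCyclic P) {E : ℕ}
    (hE1 : ((Nat.card F : ℕ) : ZMod p) ^ E = 1) :
    ∃ (n : ℕ) (x : Fin n → V ≃ₗ[F] V), 2 ≤ n ∧ BG p ⊤ P x E := by
  have hfin : Finite (V ≃ₗ[F] V) := Finite.of_injective (fun g : V ≃ₗ[F] V => (g : V → V)) DFunLike.coe_injective
  obtain ⟨n, D, D', hD⟩ := Syl.exists_frL hpF hP.isP
  have hdec := hD.dec hP
  have hb : Blks p ⊤ P (fun i => triv P (D' i)) E := by
    refine hdec.blks hab ?_ ?_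
    · rintro g ⟨-, hg⟩ i
      obtain ⟨j, -, hj⟩ := hD.perm hpF hP hg i
      exact ⟨j, hj⟩
    · rintro g ⟨-, hg⟩ i h1 z hz t ht
      obtain ⟨j, hj, hj'⟩ := hD.perm hpF hP hg i
      have hji : j = i := by
        by_contra hne
        have h2 : D j ≤ D' i := hdec.le i j (Ne.symm hne)
        apply (hD.irr j).ne
        rw [eq_bot_iff, ← (hdec.compl j).inf_eq_bot]
        refine le_inf le_rfl fun v hv => ?_
        have h3 := h2 hv
        have h4 : g⁻¹ v ∈ D' i := by rw [h1, mul_inv_self_apply]; exact h3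
        rw [hj', mul_inv_self_apply] at h4
        exact h4
      subst hji
      have hzQ : z ∈ triv P (D' j) := by rw [hz]; exact Subgroup.mem_zpowers z
      have hz1 : z ≠ 1 := by
        intro h2
        apply hdec.ne j
        rw [hz, h2, Subgroup.zpowers_one_eq_bot]
      have hdvd := dvd_orderOf hP.isP hzQ.1 hz1
      obtain ⟨k, hk⟩ := exp_same (fun m hm => (hD.irr j).inv z hzQ.1 m hm) (hD.irr j).ne
        (fun X hX hXz => hdec.irr_gen le_rfl (hD.irr j) hz hX hXz)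
        (fun m hm => by rw [← hj] at hm; exact mem_im.1 hm) ht
      have h2 : z ^ t * (z ^ (Nat.card F ^ k))⁻¹ = 1 := by
        refine equiv_ext_compl (hdec.compl j) (fun v hv => ?_) fun v hv => ?_
        · rw [LinearEquiv.mul_apply, hk _ ((hD.irr j).inv _ (P.inv_mem (P.pow_mem hzQ.1 _)) v hv), mul_inv_self_apply]
          rfl
        · have h3 : z ^ t * (z ^ (Nat.card F ^ k))⁻¹ ∈ triv P (D' j) :=
            Subgroup.mul_mem _ (Subgroup.pow_mem _ hzQ _) (Subgroup.inv_mem _ (Subgroup.pow_mem _ hzQ _))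
          exact h3.2 v hv
      have h3 := zpow_eq_of_gen hdvd (mul_inv_eq_one.1 h2)
      rw [h3, Nat.cast_pow, ← pow_mul, mul_comm, pow_mul, hE1, one_pow]
  obtain ⟨x, hx, -⟩ := hb.exists_bg hP.isP
  exact ⟨n, x, hdec.two_le hab (fun y hy h1 => hD.totf hy h1) hnc, hx⟩

end Cfsg.Agent.H493.AP
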